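import Groth.Agent.PruferLib.CoherentPoly
import Mathlib.RingTheory.Flat.TorsionFree
import Mathlib.RingTheory.LocalRing.ResidueField.Ideal
import Mathlib.RingTheory.Valuation.ValuationRing
import Mathlib.RingTheory.Nakayama

/-!
# Flat algebras over valuation rings with reduced special fibre
-/

universe u

set_option autoImplicit false
set_option backward.isDefEq.respectTransparency false

open scoped TensorProduct

namespace Groth.Agent.FlatMorVal

theorem valuationRing_localization (R : Type u) [CommRing R] [IsDomain R] [ValuationRing R]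
    (p : Ideal R) [p.IsPrime] : ValuationRing (Localization.AtPrime p) := by
  have : IsDomain (Localization.AtPrime p) :=
    IsLocalization.isDomain_localization p.primeCompl_le_nonZeroDivisors
  suffices PreValuationRing (Localization.AtPrime p) from ⟨⟩
  refine ⟨fun a b => ?_⟩
  obtain ⟨a, s, rfl⟩ := IsLocalization.exists_mk'_eq p.primeCompl a
  obtain ⟨b, t, rfl⟩ := IsLocalization.exists_mk'_eq p.primeCompl b
  obtain ⟨c, hc | hc⟩ := ValuationRing.cond (a * t) (b * s)
  · refine ⟨algebraMap R _ c, Or.inl ?_⟩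
    rw [← IsLocalization.mk'_one (M := p.primeCompl) (Localization.AtPrime p) c,
      ← IsLocalization.mk'_mul]
    refine IsLocalization.mk'_eq_of_eq ?_
    simp only [Submonoid.coe_mul, Submonoid.coe_one, mul_one]
    first | linear_combination hc | linear_combination (-1 : R) * hc
  · refine ⟨algebraMap R _ c, Or.inr ?_⟩
    rw [← IsLocalization.mk'_one (M := p.primeCompl) (Localization.AtPrime p) c,
      ← IsLocalization.mk'_mul]
    refine IsLocalization.mk'_eq_of_eq ?_
    simp only [Submonoid.coe_mul, Submonoid.coe_one, mul_one]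
    first | linear_combination hc | linear_combination (-1 : R) * hc

/-- If the special fibre of a torsion free algebra of finite type over a valuation ring is reduced,
then the nilradical dies near the special fibre. -/
theorem exists_kill {R : Type u} [CommRing R] [IsDomain R] [ValuationRing R] {B : Type u} [CommRing B]
    [Algebra R B] [Algebra.FiniteType R B]
    (htf : ∀ (r : R) (b : B), r ≠ 0 → algebraMap R B r * b = 0 → b = 0)
    (hrad : ((IsLocalRing.maximalIdeal R).map (algebraMap R B)).IsRadical) :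
    ∃ e : B, e - 1 ∈ (IsLocalRing.maximalIdeal R).map (algebraMap R B) ∧
      ∀ x : B, IsNilpotent x → e * x = 0 := by
  classical
  let N := nilradical B
  let J := (IsLocalRing.maximalIdeal R).map (algebraMap R B)
  have hR : ∀ (p : Ideal R) [p.IsPrime], ValuationRing (Localization.AtPrime p) :=
    fun p _ => valuationRing_localization R p
  have : Algebra.FinitePresentation R B := PruferLib.FlatFP.finitePresentation_algebra hR B htf
  have : Algebra.FinitePresentation R (B ⧸ N) := by
    refine PruferLib.FlatFP.finitePresentation_algebra hR (B ⧸ N) fun r a hr h => ?_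
    obtain ⟨b, rfl⟩ := Ideal.Quotient.mk_surjective a
    rw [← Ideal.Quotient.mk_algebraMap, ← map_mul, Ideal.Quotient.eq_zero_iff_mem] at h
    obtain ⟨n, hn⟩ := mem_nilradical.1 h
    rw [Ideal.Quotient.eq_zero_iff_mem]
    refine mem_nilradical.2 ⟨n, htf (r ^ n) _ (pow_ne_zero _ hr) ?_⟩
    rw [map_pow, ← mul_pow]
    exact hn
  have hN : N.FG := by
    have h := Algebra.FinitePresentation.ker_fG_of_surjective (Ideal.Quotient.mkₐ R N)
      Ideal.Quotient.mk_surjective
    have e : RingHom.ker (Ideal.Quotient.mkₐ R N) = N := Ideal.Quotient.mkₐ_ker R N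
    exact e ▸ h
  have hle : N ≤ J • N := by
    intro x hx
    have hxJ : x ∈ J := hrad (by
      obtain ⟨n, hn⟩ := mem_nilradical.1 hx
      exact ⟨n, by rw [hn]; exact J.zero_mem⟩)
    obtain ⟨r, hr, b, rfl⟩ : ∃ r ∈ IsLocalRing.maximalIdeal R, ∃ b, x = algebraMap R B r * b := by
      clear hx
      induction hxJ using Submodule.span_induction with
      | mem z hz =>
        obtain ⟨r, hr, rfl⟩ := hz
        exact ⟨r, hr, 1, (mul_one _).symm⟩
      | zero => exact ⟨0, zero_mem _, 0, by simp⟩
      | add y z _ _ hy hz =>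
        obtain ⟨r, hr, b, rfl⟩ := hy
        obtain ⟨r', hr', b', rfl⟩ := hz
        obtain ⟨c, hc | hc⟩ := ValuationRing.cond r r'
        · exact ⟨r, hr, b + algebraMap R B c * b', by rw [← hc, map_mul]; ring⟩
        · exact ⟨r', hr', algebraMap R B c * b + b', by rw [← hc, map_mul]; ring⟩
      | smul a y _ hy =>
        obtain ⟨r, hr, b, rfl⟩ := hy
        exact ⟨r, hr, a * b, by rw [smul_eq_mul]; ring⟩
    by_cases hr0 : r = 0
    · rw [hr0, map_zero, zero_mul]
      exact zero_mem _
    · refine Submodule.smul_mem_smul (Ideal.mem_map_of_mem _ hr) ?_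
      obtain ⟨n, hn⟩ := mem_nilradical.1 hx
      refine mem_nilradical.2 ⟨n, htf (r ^ n) _ (pow_ne_zero _ hr0) ?_⟩
      rw [map_pow, ← mul_pow]
      exact hn
  obtain ⟨e, he, he0⟩ := Submodule.exists_sub_one_mem_and_smul_eq_zero_of_fg_of_le_smul J N hN hle
  exact ⟨e, he, fun x hx => he0 x (mem_nilradical.2 hx)⟩

/-- The same for the fibre over an arbitrary prime. -/
theorem exists_kill_fibre {R : Type u} [CommRing R] [IsDomain R] [ValuationRing R] {B : Type u}
    [CommRing B] [Algebra R B] [Algebra.FiniteType R B] [Module.Flat R B]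
    (hrad : ((IsLocalRing.maximalIdeal R).map (algebraMap R B)).IsRadical)
    (P : Ideal R) [P.IsPrime] :
    ∃ e : B, e - 1 ∈ (IsLocalRing.maximalIdeal R).map (algebraMap R B) ∧
      ∀ t : B ⊗[R] P.ResidueField, IsNilpotent t → e ⊗ₜ[R] (1 : P.ResidueField) * t = 0 := by
  classical
  let R' := R ⧸ P
  let B' := R' ⊗[R] B
  let J := (IsLocalRing.maximalIdeal R).map (algebraMap R B)
  have : ValuationRing R' := Function.Surjective.valuationRing (Ideal.Quotient.mk P)
    Ideal.Quotient.mk_surjective
  have htf : ∀ (r : R') (b : B'), r ≠ 0 → algebraMap R' B' r * b = 0 → b = 0 := fun r b hr h => by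
    refine Module.Flat.isSMulRegular_of_nonZeroDivisors (R := R') (M := B')
      (mem_nonZeroDivisors_of_ne_zero hr) ?_
    show r • b = r • (0 : B')
    rw [smul_zero]
    exact (Algebra.smul_def r b).trans h
  let π : B →ₐ[R] B' := Algebra.TensorProduct.includeRight
  have hπ : Function.Surjective π := by
    intro z
    induction z using TensorProduct.induction_on with
    | zero => exact ⟨0, map_zero _⟩
    | tmul a b =>
      obtain ⟨r, rfl⟩ := Ideal.Quotient.mk_surjective a
      refine ⟨r • b, ?_⟩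
      show (1 : R') ⊗ₜ[R] (r • b) = _
      rw [TensorProduct.tmul_smul, TensorProduct.smul_tmul', Algebra.smul_def, mul_one]
      rfl
    | add x y hx hy =>
      obtain ⟨a, rfl⟩ := hx
      obtain ⟨b, rfl⟩ := hy
      exact ⟨a + b, map_add _ _ _⟩
  have hPm : P ≤ IsLocalRing.maximalIdeal R := IsLocalRing.le_maximalIdeal (Ideal.IsPrime.ne_top ‹_›)
  let ψ : B' →ₐ[R] B ⧸ J := Algebra.TensorProduct.lift
    (Ideal.Quotient.liftₐ P (Algebra.ofId R (B ⧸ J)) fun a ha => by
      show Ideal.Quotient.mk J (algebraMap R B a) = 0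
      exact Ideal.Quotient.eq_zero_iff_mem.2 (Ideal.mem_map_of_mem _ (hPm ha)))
    (Ideal.Quotient.mkₐ R J) fun _ _ => Commute.all _ _
  have hker : RingHom.ker π.toRingHom ≤ J := fun b hb => by
    have : ψ (π b) = Ideal.Quotient.mk J b := by
      show ψ ((1 : R') ⊗ₜ[R] b) = _
      rw [Algebra.TensorProduct.lift_tmul, map_one, one_mul]
      rfl
    rw [show π b = 0 from hb, map_zero] at this
    exact Ideal.Quotient.eq_zero_iff_mem.1 this.symm
  have hJ' : (IsLocalRing.maximalIdeal R').map (algebraMap R' B') = J.map π.toRingHom := by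
    rw [← IsLocalRing.map_maximalIdeal_of_surjective (Ideal.Quotient.mk P) Ideal.Quotient.mk_surjective,
      Ideal.map_map, Ideal.map_map]
    congr 1
    ext r
    exact (π.commutes r).symm
  have hcm : (J.map π.toRingHom).comap π.toRingHom = J := by
    rw [Ideal.comap_map_of_surjective π.toRingHom hπ, ← RingHom.ker_eq_comap_bot, sup_eq_left]
    exact hker
  obtain ⟨e', he', hkill⟩ := exists_kill htf (by
    rw [hJ']
    rintro z ⟨n, hn⟩
    obtain ⟨b, rfl⟩ := hπ z
    exact Ideal.mem_map_of_mem π.toRingHom (hrad ⟨n, hcm.le (by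
      rw [Ideal.mem_comap, map_pow]; exact hn)⟩))
  obtain ⟨e, rfl⟩ := hπ e'
  refine ⟨e, hcm.le (by rw [Ideal.mem_comap, map_sub, map_one, ← hJ']; exact he'), fun t ht => ?_⟩
  let κ := P.ResidueField
  let ι : B' →ₐ[R] B ⊗[R] κ := (Algebra.TensorProduct.comm R κ B).toAlgHom.comp
    (Algebra.TensorProduct.map (IsScalarTower.toAlgHom R R' κ) (AlgHom.id R B))
  have hι : Function.Injective ι := (Algebra.TensorProduct.comm R κ B).injective.comp
    (Module.Flat.rTensor_preserves_injective_linearMap (IsScalarTower.toAlgHom R R' κ).toLinearMap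
      (IsFractionRing.injective R' κ))
  obtain ⟨r, hr, b, hrb⟩ : ∃ r ∉ P, ∃ b : B, t * ((1 : B) ⊗ₜ[R] algebraMap R κ r) = b ⊗ₜ[R] (1 : κ) := by
    clear ht
    induction t using TensorProduct.induction_on with
    | zero => exact ⟨1, P.ne_top_iff_one.1 (Ideal.IsPrime.ne_top ‹_›), 0, by simp⟩
    | tmul b k =>
      obtain ⟨⟨a, ⟨r, hr⟩⟩, hk⟩ := IsLocalization.surj (nonZeroDivisors R') k
      obtain ⟨a, rfl⟩ := Ideal.Quotient.mk_surjective a
      obtain ⟨r, rfl⟩ := Ideal.Quotient.mk_surjective r
      refine ⟨r, fun h => nonZeroDivisors.ne_zero hr (Ideal.Quotient.eq_zero_iff_mem.2 h), a • b, ?_⟩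
      rw [Algebra.TensorProduct.tmul_mul_tmul, mul_one, TensorProduct.smul_tmul]
      congr 1
      rw [Algebra.smul_def, mul_one]
      exact hk
    | add x y hx hy =>
      obtain ⟨r, hr, b, hb⟩ := hx
      obtain ⟨r', hr', b', hb'⟩ := hy
      refine ⟨r * r', fun h => ((‹P.IsPrime›).mem_or_mem h).elim hr hr', r' • b + r • b', ?_⟩
      have hone : ∀ c : R, (1 : B) ⊗ₜ[R] algebraMap R κ c = algebraMap R (B ⊗[R] κ) c := fun c =>
        ((Algebra.TensorProduct.includeRight : κ →ₐ[R] B ⊗[R] κ)).commutes c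
      have hb2 : ∀ (c : R) (d : B), (c • d) ⊗ₜ[R] (1 : κ) = algebraMap R (B ⊗[R] κ) c * d ⊗ₜ[R] (1 : κ) :=
        fun c d => by rw [← TensorProduct.smul_tmul', Algebra.smul_def]
      rw [TensorProduct.add_tmul, hb2, hb2, ← hb, ← hb', hone, hone, hone, map_mul]
      ring
  have hu : IsUnit ((1 : B) ⊗ₜ[R] algebraMap R κ r) := by
    refine IsUnit.map (Algebra.TensorProduct.includeRight : κ →ₐ[R] B ⊗[R] κ) (isUnit_iff_ne_zero.2 ?_)
    intro h
    exact hr (Ideal.algebraMap_residueField_eq_zero.1 h)
  have hι' : ∀ c : B, ι (π c) = c ⊗ₜ[R] (1 : κ) := fun c => by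
    show (Algebra.TensorProduct.comm R κ B) ((Algebra.TensorProduct.map (IsScalarTower.toAlgHom R R' κ)
      (AlgHom.id R B)) ((1 : R') ⊗ₜ[R] c)) = _
    rw [Algebra.TensorProduct.map_tmul, map_one, AlgHom.id_apply, Algebra.TensorProduct.comm_tmul]
  have hbn : IsNilpotent (π b) := by
    obtain ⟨n, hn⟩ := ht
    refine ⟨n, hι ?_⟩
    rw [map_pow, map_zero, hι', ← hrb, mul_pow, hn, zero_mul]
  refine hu.mul_left_eq_zero.1 ?_
  rw [mul_assoc, hrb, ← hι', ← hι', ← map_mul, hkill _ hbn, map_zero]

end Groth.Agent.FlatMorVal
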