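import Mathlib

/-!
For a nonzero non-unit `x` of a local domain there is a prime `q ∋ x` such that no finitely
generated ideal inside `q` has all its powers containing `x`.
-/

universe u

namespace Groth.Agent.FlatMorVal

theorem exists_prime_mem_forall_fg_exists_notMem_pow (A : Type u) [CommRing A] [IsDomain A]
    [IsLocalRing A] (x : A) (hx0 : x ≠ 0) (hx : x ∈ IsLocalRing.maximalIdeal A) :
    ∃ q : Ideal A, q.IsPrime ∧ x ∈ q ∧ q ≠ ⊥ ∧
      ∀ J : Ideal A, J.FG → J ≤ q → ∃ n : ℕ, 1 ≤ n ∧ x ∉ J ^ n := by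
  let K := FractionRing A
  let ι := algebraMap A K
  have hι : Function.Injective ι := IsFractionRing.injective A K
  obtain ⟨V, hAV, hV⟩ : ∃ V : ValuationSubring K, (∀ a, ι a ∈ V) ∧
      ∀ a ∈ IsLocalRing.maximalIdeal A, V.valuation (ι a) < 1 := by
    haveI : IsLocalRing ι.range :=
      IsLocalRing.of_surjective' ι.rangeRestrict ι.rangeRestrict_surjective
    obtain ⟨V, hVle, hVloc⟩ := (LocalSubring.range ι).exists_le_valuationSubring
    refine ⟨V, fun a => hVle ⟨a, rfl⟩, fun a ha => ?_⟩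
    have hmem : ι a ∈ V := hVle ⟨a, rfl⟩
    rw [← not_le]
    intro hle
    have hu : IsUnit (⟨ι a, hmem⟩ : V) :=
      (V.valuation_eq_one_iff ⟨ι a, hmem⟩).mpr
        (le_antisymm (V.valuation_le_one ⟨ι a, hmem⟩) hle)
    have hu' : IsUnit (⟨ι a, ⟨a, rfl⟩⟩ : (LocalSubring.range ι).toSubring) :=
      hVloc.1 _ (by exact hu)
    obtain ⟨⟨_, b, rfl⟩, hb, -⟩ := isUnit_iff_exists.mp hu'
    exact ha (IsUnit.of_mul_eq_one b (hι (by
      have := congrArg Subtype.val hb
      simpa using this)))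
  let v : Valuation A V.ValueGroup := V.valuation.comap ι
  have hv1 : ∀ a, v a ≤ 1 := fun a => V.valuation_le_one ⟨ι a, hAV a⟩
  have hx1 : v x < 1 := hV x hx
  have hvx : v x ≠ 0 := by
    simp [v, map_eq_zero_iff _ hι, hx0]
  let q : Ideal A :=
    { carrier := {a | ∃ k : ℕ, v a ^ k ≤ v x}
      add_mem' := by
        rintro a b ⟨k, hk⟩ ⟨l, hl⟩
        refine ⟨k + l, ?_⟩
        rcases le_max_iff.mp (v.map_add a b) with h | h
        · calc v (a + b) ^ (k + l) ≤ v a ^ (k + l) := pow_le_pow_left' h _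
            _ ≤ v a ^ k := pow_le_pow_right_of_le_one' (hv1 a) (Nat.le_add_right k l)
            _ ≤ v x := hk
        · calc v (a + b) ^ (k + l) ≤ v b ^ (k + l) := pow_le_pow_left' h _
            _ ≤ v b ^ l := pow_le_pow_right_of_le_one' (hv1 b) (Nat.le_add_left l k)
            _ ≤ v x := hl
      zero_mem' := ⟨1, by simp⟩
      smul_mem' := by
        rintro c a ⟨k, hk⟩
        refine ⟨k, le_trans (pow_le_pow_left' ?_ k) hk⟩
        simp only [smul_eq_mul, map_mul]
        exact mul_le_of_le_one_left' (hv1 c) }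
  have hqprime : q.IsPrime := by
    refine ⟨fun htop => ?_, ?_⟩
    · obtain ⟨k, hk⟩ : (1 : A) ∈ q := by rw [htop]; trivial
      rw [map_one, one_pow] at hk
      exact absurd hk (not_le.mpr hx1)
    · rintro a b ⟨k, hk⟩
      rcases le_total (v a) (v b) with h | h
      · left
        refine ⟨2 * k, le_trans ?_ hk⟩
        rw [pow_mul, map_mul, sq]
        exact pow_le_pow_left' (mul_le_mul' le_rfl h) k
      · right
        refine ⟨2 * k, le_trans ?_ hk⟩
        rw [pow_mul, map_mul, sq]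
        exact pow_le_pow_left' (mul_le_mul' h le_rfl) k
  have hxq : x ∈ q := ⟨1, by simp⟩
  refine ⟨q, hqprime, hxq, fun h => hx0 (by rw [h] at hxq; simpa using hxq), fun J hJ hJq => ?_⟩
  obtain ⟨s, rfl⟩ := hJ
  -- the largest value of a generator
  obtain ⟨c, hc1, hcq, hcmax⟩ : ∃ c : V.ValueGroup, c ≤ 1 ∧ (∃ k : ℕ, c ^ k ≤ v x) ∧
      ∀ a ∈ s, v a ≤ c := by
    rcases s.eq_empty_or_nonempty with rfl | hs
    · exact ⟨0, zero_le_one, ⟨1, by simp⟩, by simp⟩
    · obtain ⟨a, ha, hmax⟩ := s.exists_max_image v hs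
      exact ⟨v a, hv1 a, hJq (Ideal.subset_span ha), hmax⟩
  have hle : ∀ (n : ℕ), ∀ b ∈ (Ideal.span (s : Set A)) ^ n, v b ≤ c ^ n := by
    intro n
    induction n with
    | zero => intro b _; simpa using hv1 b
    | succ n ih =>
      intro b hb
      rw [pow_succ] at hb
      refine Submodule.mul_induction_on hb (fun y hy z hz => ?_) (fun y z hy hz => ?_)
      · rw [map_mul, pow_succ]
        refine mul_le_mul' (ih y hy) ?_
        refine Submodule.span_induction (p := fun z _ => v z ≤ c) hcmax (by simp)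
          (fun y z _ _ hy hz => le_trans (v.map_add y z) (max_le hy hz))
          (fun r z _ hz => ?_) hz
        rw [smul_eq_mul, map_mul]
        exact le_trans (mul_le_of_le_one_left' (hv1 r)) hz
      · exact le_trans (v.map_add y z) (max_le hy hz)
  obtain ⟨k, hk⟩ := hcq
  refine ⟨k + 1, Nat.le_add_left 1 k, fun hmem => ?_⟩
  have h1 : v x ≤ c ^ (k + 1) := hle _ x hmem
  have hc' : c < 1 := by
    rcases lt_or_eq_of_le hc1 with h | h
    · exact h
    · rw [h, one_pow] at hk
      exact absurd hk (not_le.mpr hx1)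
  have h2 : c ^ (k + 1) ≤ v x * c := by
    rw [pow_succ]; exact mul_le_mul' hk le_rfl
  have h3 : v x * c < v x := by
    simpa using mul_lt_mul_of_pos_left hc' (zero_lt_iff.mpr hvx)
  exact absurd (le_trans h1 h2) (not_le.mpr h3)

end Groth.Agent.FlatMorVal
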